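import Cfsg.Agent.H269.CubeJ2
import Cfsg.Agent.H690.Spor.RankThree

/-!
# A group with a normal subgroup `J₂` has an irreducible character of degree 63 (helper221, for S4906)

The group acts on the 100 points of the Hall-Janko graph; rank 3 with subdegrees 1, 36, 63, and Frame's theorem
gives the degrees 36 and 63.
-/

set_option autoImplicit false

namespace Cfsg.Agent.H221.DS.JTwoTen

open Cfsg Equiv Cfsg.Agent.SporadicA.PermTab Cfsg.Agent.SporadicA.PermRank3
open Cfsg.Agent.SporadicA.J2Data Cfsg.Agent.SporadicA.J2Hundred Cfsg.Agent.H269.CubeJ2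
open Cfsg.Agent.H690.Spor.RankThree

universe u

theorem uniq {h k : Perm (Fin 100)} (e : ∀ g ∈ G, h * g * h⁻¹ = k * g * k⁻¹) : h = k := by
  have h1 : k⁻¹ * h = 1 := by
    refine cent_triv fun g hg => ?_
    have h2 := e g hg
    calc g * (k⁻¹ * h) = k⁻¹ * (k * g * k⁻¹) * h := by group
      _ = k⁻¹ * (h * g * h⁻¹) * h := by rw [h2]
      _ = k⁻¹ * h * g := by group
  exact (inv_mul_eq_one.1 h1).symm

/-- The permutation that induces an automorphism. -/
noncomputable def pf (α : MulAut G) : Perm (Fin 100) := (aut_G α).choose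

theorem pf_mem (α : MulAut G) : pf α ∈ HH := (aut_G α).choose_spec.1

theorem pf_spec (α : MulAut G) (g : G) : ((α g : G) : Perm (Fin 100)) = pf α * g.1 * (pf α)⁻¹ :=
  (aut_G α).choose_spec.2 g

theorem pf_eq {α : MulAut G} {h : Perm (Fin 100)} (e : ∀ g : G, ((α g : G) : Perm (Fin 100)) = h * g.1 * h⁻¹) :
    pf α = h :=
  uniq fun g hg => (pf_spec α ⟨g, hg⟩).symm.trans (e ⟨g, hg⟩)

/-- The action of the automorphism group on the 100 points. -/
noncomputable def ph : MulAut G →* Perm (Fin 100) where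
  toFun := pf
  map_one' := pf_eq fun g => by simp
  map_mul' α β := pf_eq fun g => by
    rw [MulAut.mul_apply, pf_spec α, pf_spec β]
    group

theorem ph_conj (x : G) : ph (MulAut.conj x) = x.1 := pf_eq fun g => by
  rw [MulAut.conj_apply, Subgroup.coe_mul, Subgroup.coe_mul, Subgroup.coe_inv]

section Table

theorem tab1 : allB (fun v => cond (Nat.beq (lk c1 v) 2047) true (Nat.beq (bitM 100 adj 0 v) (bitM 100 adj 0 13))) 100
    = true := by decide +kernel

theorem tab2 : allB (fun v => cond (Nat.beq (lk c1b v) 2047) true (Nat.beq (bitM 100 adj 0 v) (bitM 100 adj 0 1))) 100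
    = true := by decide +kernel

theorem tab3 : Nat.beq (bitM 100 adj 0 13) (bitM 100 adj 0 1) = false := by decide +kernel

end Table

variable {A : Type u} [Group A]

/-- Rank 3 for a group acting on the 100 points whose image lies between `G` and `HH`. -/
theorem rank3 [MulAction A (Fin 100)] (hA : ∀ a : A, MulAction.toPermHom A (Fin 100) a ∈ HH)
    (hG : ∀ g ∈ G, ∃ a : A, MulAction.toPermHom A (Fin 100) a = g) :
    ∃ R, R3 A (Fin 100) R 36 63 := by
  have hsm : ∀ g ∈ G, ∃ a : A, ∀ x : Fin 100, a • x = g x := by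
    intro g hg
    obtain ⟨a, ha⟩ := hG g hg
    exact ⟨a, fun x => by rw [← ha]; rfl⟩
  have hadj : ∀ (a : A) (x y : Fin 100), bitM 100 adj (a • x : Fin 100) (a • y : Fin 100) = bitM 100 adj x y :=
    fun a x y => hA a x y
  have hcov : ∀ v : Fin 100, v = 0 ∨ lk c1 v ≠ 2047 ∨ lk c1b v ≠ 2047 := by
    intro v
    have h := (allB_iff _ _).1 c_cover v v.2
    cases h1 : Nat.beq (v : ℕ) 0 with
    | true => exact Or.inl (Fin.ext (Nat.eq_of_beq_eq_true h1))
    | false =>
      rw [h1, cond_false] at h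
      cases h2 : Nat.beq (lk c1 v) 2047 with
      | true =>
        rw [h2, cond_true] at h
        exact Or.inr (Or.inr ((nbeq_iff _ _).1 h))
      | false => exact Or.inr (Or.inl (Nat.ne_of_beq_eq_false h2))
  have hb1 : ∀ v : Fin 100, lk c1 v ≠ 2047 → bitM 100 adj 0 v = bitM 100 adj 0 13 := by
    intro v hv
    have h := (allB_iff _ _).1 tab1 v v.2
    have h2 : Nat.beq (lk c1 v) 2047 = false := by
      rw [← Bool.not_eq_true]
      exact fun hb => hv (Nat.eq_of_beq_eq_true hb)
    rw [h2, cond_false] at h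
    exact Nat.eq_of_beq_eq_true h
  have hb2 : ∀ v : Fin 100, lk c1b v ≠ 2047 → bitM 100 adj 0 v = bitM 100 adj 0 1 := by
    intro v hv
    have h := (allB_iff _ _).1 tab2 v v.2
    have h2 : Nat.beq (lk c1b v) 2047 = false := by
      rw [← Bool.not_eq_true]
      exact fun hb => hv (Nat.eq_of_beq_eq_true hb)
    rw [h2, cond_false] at h
    exact Nat.eq_of_beq_eq_true h
  have hne : bitM 100 adj 0 13 ≠ bitM 100 adj 0 1 := Nat.ne_of_beq_eq_false tab3
  have hc13 : lk c1 (13 : Fin 100) ≠ 2047 := by decide +kernel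
  have hc1 : lk c1b (1 : Fin 100) ≠ 2047 := by decide +kernel
  have ho1 : MulAction.orbit (MulAction.stabilizer A (0 : Fin 100)) (13 : Fin 100) = {v : Fin 100 | lk c1 v ≠ 2047} := by
    ext v
    constructor
    · rintro ⟨⟨a, ha⟩, hv⟩
      have hv' : a • (13 : Fin 100) = v := hv
      have ha' : a • (0 : Fin 100) = 0 := ha
      have h3 := hadj a 0 13
      rw [ha', hv'] at h3
      have h3' : bitM 100 adj 0 v = bitM 100 adj 0 13 := h3
      rcases hcov v with h1 | h1 | h1
      · exfalso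
        rw [h1, ← ha'] at hv'
        exact absurd (MulAction.injective a hv') (by decide)
      · exact h1
      · exfalso
        rw [hb2 v h1] at h3'
        exact hne h3'.symm
    · intro hv
      obtain ⟨g, hg, hgv⟩ := orb_pair psu0 (mem2 psu0 psu1) or1 (13 : Fin 100) v hc13 hv
      obtain ⟨a, ha⟩ := hsm g hg.1
      refine ⟨⟨a, ?_⟩, ?_⟩
      · rw [MulAction.mem_stabilizer_iff, ha]
        exact hg.2
      · show a • (13 : Fin 100) = v
        rw [ha, hgv]
  have ho2 : MulAction.orbit (MulAction.stabilizer A (0 : Fin 100)) (1 : Fin 100) = {v : Fin 100 | lk c1b v ≠ 2047} := by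
    ext v
    constructor
    · rintro ⟨⟨a, ha⟩, hv⟩
      have hv' : a • (1 : Fin 100) = v := hv
      have ha' : a • (0 : Fin 100) = 0 := ha
      have h3 := hadj a 0 1
      rw [ha', hv'] at h3
      have h3' : bitM 100 adj 0 v = bitM 100 adj 0 1 := h3
      rcases hcov v with h1 | h1 | h1
      · exfalso
        rw [h1, ← ha'] at hv'
        exact absurd (MulAction.injective a hv') (by decide)
      · exfalso
        rw [hb1 v h1] at h3'
        exact hne h3'
      · exact h1
    · intro hv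
      obtain ⟨g, hg, hgv⟩ := orb_pair psu0 (mem2 psu0 psu1) or1b (1 : Fin 100) v hc1 hv
      obtain ⟨a, ha⟩ := hsm g hg.1
      refine ⟨⟨a, ?_⟩, ?_⟩
      · rw [MulAction.mem_stabilizer_iff, ha]
        exact hg.2
      · show a • (1 : Fin 100) = v
        rw [ha, hgv]
  have ht : MulAction.IsPretransitive A (Fin 100) := by
    constructor
    intro x y
    obtain ⟨g, hg, hgx⟩ := trans x
    obtain ⟨k, hk, hky⟩ := trans y
    obtain ⟨a, ha⟩ := hsm _ (G.mul_mem hk (G.inv_mem hg))
    refine ⟨a, ?_⟩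
    rw [ha, ← hky, Perm.mul_apply]
    exact congrArg k (Perm.inv_eq_iff_eq.2 hgx.symm)
  exact ⟨_, R3.of_orbits (a := (0 : Fin 100)) (b := 13) (c := 1) ht (by decide) (by decide)
    (by rw [ho1]; exact ncard_of_cntOrb cn1) (by rw [ho2]; exact ncard_of_cntOrb cn1b) (by decide) (by simp)⟩

theorem arith {f g D : ℕ} (h1 : f + g = 36 + 63) (h2 : f * g * D = (1 + 36 + 63) * 36 * 63) (h3 : f ≠ g → IsSquare D) :
    f = 63 ∨ g = 63 := by
  have hne : f ≠ g := by omega
  obtain ⟨d, rfl⟩ := h3 hne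
  have hf : f < 100 := by omega
  have hg : g = 99 - f := by omega
  subst hg
  have hd : d < 60 := by
    by_contra hcon
    push Not at hcon
    have h4 : 60 * 60 ≤ d * d := Nat.mul_le_mul hcon hcon
    have h5 : f * (99 - f) * (60 * 60) ≤ 226800 := (Nat.mul_le_mul_left _ h4).trans_eq h2
    have h6 : f * (99 - f) ≤ 63 := by omega
    have h7 : f * (99 - f) ≠ 0 := by
      intro h0
      rw [h0] at h2
      omega
    have h8 : f ≠ 0 := by rintro rfl; simp at h7
    have h9 : 99 - f ≠ 0 := by intro h0; rw [h0] at h7; simp at h7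
    have : 98 ≤ f * (99 - f) := by
      obtain ⟨x, rfl⟩ : ∃ x, f = x + 1 := ⟨f - 1, by omega⟩
      obtain ⟨y, hy⟩ : ∃ y, 99 - (x + 1) = y + 1 := ⟨98 - x - 1, by omega⟩
      rw [hy]
      have : x + y = 97 := by omega
      nlinarith [Nat.zero_le (x * y)]
    omega
  have key : ∀ f < 100, ∀ d < 60, f * (99 - f) * (d * d) = 226800 → f = 63 ∨ 99 - f = 63 := by
    decide +kernel
  exact key f hf d hd h2

theorem of_action [Finite A] [MulAction A (Fin 100)] (hA : ∀ a : A, MulAction.toPermHom A (Fin 100) a ∈ HH)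
    (hG : ∀ g ∈ G, ∃ a : A, MulAction.toPermHom A (Fin 100) a = g) :
    ∃ χ : A → ℂ, IsIrrCharacter A χ ∧ χ 1 = 63 := by
  classical
  obtain ⟨R, hR⟩ := rank3 hA hG
  obtain ⟨χ₁, χ₂, f, g, D, h1, h2, -, h3, h4, h5⟩ := hR.frame
  rcases arith h3 h4 h5 with h6 | h6
  · exact ⟨χ₁, χ₁.2, by rw [h1, h6]; norm_num⟩
  · exact ⟨χ₂, χ₂.2, by rw [h2, h6]; norm_num⟩

/-- A finite group with a normal subgroup `J₂` has an irreducible character of degree 63. -/
theorem exists_deg [Finite A] (S : Subgroup A) [S.Normal] (h : Spor.IsoJ2 S) :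
    ∃ χ : A → ℂ, IsIrrCharacter A χ ∧ χ 1 = 63 := by
  obtain ⟨e⟩ := h
  obtain ⟨f⟩ := Cfsg.Agent.J2.HundredGens.J2_iso Cfsg.Agent.S1619.result.2.2.2
  let E : S ≃* G := e.trans f
  let ψ : A →* Perm (Fin 100) := (ph.comp (MulAut.congr E).toMonoidHom).comp MulAut.conjNormal
  letI : MulAction A (Fin 100) := MulAction.compHom (Fin 100) ψ
  have hψ : ∀ a : A, MulAction.toPermHom A (Fin 100) a = ψ a := by
    intro a
    ext x
    rfl
  refine of_action ?_ ?_
  · intro a
    rw [hψ]
    exact pf_mem _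
  · intro g hg
    refine ⟨(E.symm ⟨g, hg⟩ : S), ?_⟩
    rw [hψ]
    have h1 : (MulAut.congr E) (MulAut.conjNormal ((E.symm ⟨g, hg⟩ : S) : A)) = MulAut.conj (⟨g, hg⟩ : G) := by
      ext x
      simp [MulAut.congr, MulAut.conj_apply, MulAut.conjNormal_val]
    show ph ((MulAut.congr E) (MulAut.conjNormal ((E.symm ⟨g, hg⟩ : S) : A))) = g
    rw [h1, ph_conj]

theorem j2_ten [Finite A] (S : Subgroup A) [S.Normal] (h : Spor.IsoJ2 S) (_ : S.index ∣ 2)
    (_ : Subgroup.centralizer (S : Set A) = ⊥) : ∃ χ : A → ℂ, IsIrrCharacter A χ ∧ χ 1 = 63 :=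
  exists_deg S h

end Cfsg.Agent.H221.DS.JTwoTen
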